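import Mathlib

/-!
Witt vectors over rings with `p` nilpotent: units and idempotent lifting along nil kernels.
-/

set_option autoImplicit false

universe u

namespace Groth.Agent.WittLiftLib

open WittVector

variable {p : ℕ} [Fact p.Prime] {S : Type u} [CommRing S]

/-- The first `n` coefficients vanish. -/
def Low (n : ℕ) (x : WittVector p S) : Prop := x ∈ RingHom.ker (truncate (p := p) (R := S) n)

theorem low_iff {n : ℕ} {x : WittVector p S} : Low n x ↔ ∀ i < n, x.coeff i = 0 := mem_ker_truncate n x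

theorem low_zero (x : WittVector p S) : Low 0 x := low_iff.2 fun i hi => absurd hi (Nat.not_lt_zero i)

theorem low_verschiebung {n : ℕ} {x : WittVector p S} (h : Low n x) : Low (n + 1) (verschiebung x) := by
  rw [low_iff] at h ⊢
  intro i hi
  rcases i with _ | i
  · exact verschiebung_coeff_zero x
  · rw [verschiebung_coeff_succ]; exact h i (by omega)

theorem eq_verschiebung_of_coeff_zero {x : WittVector p S} (h : x.coeff 0 = 0) : x = verschiebung (x.shift 1) := by
  ext i
  rcases i with _ | i
  · rw [verschiebung_coeff_zero, h]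
  · rw [verschiebung_coeff_succ, WittVector.shift_coeff, Nat.add_comm]

theorem verschiebung_pow_succ (y : WittVector p S) (j : ℕ) :
    (verschiebung y) ^ (j + 1) = verschiebung ((p : WittVector p S) ^ j * y ^ (j + 1)) := by
  induction j with
  | zero => simp
  | succ j ih =>
    rw [pow_succ, ih, ← verschiebung_mul_frobenius, frobenius_verschiebung]
    congr 1
    ring

theorem exists_low_p_pow (hp : IsNilpotent (p : S)) : ∀ n, ∃ a, Low n ((p : WittVector p S) ^ a)
  | 0 => ⟨0, low_zero _⟩
  | n + 1 => by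
    obtain ⟨a, ha⟩ := exists_low_p_pow hp n
    obtain ⟨N, hN⟩ := hp
    have h0 : ((p : WittVector p S) ^ N).coeff 0 = 0 := by
      have := map_pow (WittVector.constantCoeff (p := p) (R := S)) (p : WittVector p S) N
      rw [map_natCast, hN] at this
      exact this
    refine ⟨N * (a + 1), ?_⟩
    rw [pow_mul, eq_verschiebung_of_coeff_zero h0, verschiebung_pow_succ]
    exact low_verschiebung (Ideal.mul_mem_right _ _ ha)

theorem exists_low_pow (hp : IsNilpotent (p : S)) {x : WittVector p S} (hx : IsNilpotent (x.coeff 0)) (n : ℕ) :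
    ∃ M, Low n (x ^ M) := by
  obtain ⟨m, hm⟩ := hx
  obtain ⟨a, ha⟩ := exists_low_p_pow hp n
  have h0 : (x ^ m).coeff 0 = 0 := by
    have := map_pow (WittVector.constantCoeff (p := p) (R := S)) x m
    exact this.trans hm
  refine ⟨m * (a + 1), ?_⟩
  rw [pow_mul, eq_verschiebung_of_coeff_zero h0, verschiebung_pow_succ]
  have h := low_verschiebung (Ideal.mul_mem_right ((x ^ m).shift 1 ^ (a + 1)) _ ha)
  rw [low_iff] at h ⊢
  exact fun i hi => h i (by omega)

/-- Truncations detect equality. -/
theorem eq_of_truncate {x y : WittVector p S} (h : ∀ n, truncate n x = truncate n y) : x = y := by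
  ext i
  have := congrArg (fun t : TruncatedWittVector p (i + 1) S => t.coeff (Fin.last i)) (h (i + 1))
  simpa using this

/-- Sequences whose truncations stabilise have limits. -/
theorem exists_limit (s : ℕ → WittVector p S)
    (h : ∀ n, ∃ N, ∀ j ≥ N, truncate n (s j) = truncate n (s N)) :
    ∃ L : WittVector p S, ∀ n, ∃ N, ∀ j ≥ N, truncate n (s j) = truncate n L := by
  choose N hN using h
  refine ⟨WittVector.mk p fun i => (s (N (i + 1))).coeff i, fun n => ⟨N n, fun j hj => ?_⟩⟩
  rw [hN n j hj]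
  ext i
  rw [coeff_truncate, coeff_truncate, WittVector.coeff_mk]
  have e1 := congrArg (fun t : TruncatedWittVector p n S => t.coeff i) (hN n (max (N n) (N (i + 1))) (le_max_left _ _))
  have e2 := congrArg (fun t : TruncatedWittVector p (i.1 + 1) S => t.coeff (Fin.last i.1))
    (hN (i + 1) (max (N n) (N (i + 1))) (le_max_right _ _))
  simp only [coeff_truncate, Fin.val_last] at e1 e2
  rw [← e1, e2]

theorem isUnit_of_coeff_zero (hp : IsNilpotent (p : S)) {x : WittVector p S} (hx : IsUnit (x.coeff 0)) : IsUnit x := by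
  obtain ⟨u, hu⟩ := hx
  let y : WittVector p S := teichmuller p (↑u⁻¹ : S)
  let z := 1 - x * y
  have hz : z.coeff 0 = 0 := by
    change WittVector.constantCoeff z = 0
    rw [map_sub, map_one, map_mul]
    change 1 - x.coeff 0 * y.coeff 0 = 0
    rw [teichmuller_coeff_zero, ← hu, Units.mul_inv, sub_self]
  let s : ℕ → WittVector p S := fun j => ∑ i ∈ Finset.range j, z ^ i
  have hs : ∀ n, ∃ N, ∀ j ≥ N, truncate n (s j) = truncate n (s N) := fun n => by
    obtain ⟨M, hM⟩ := exists_low_pow hp (x := z) ⟨1, by rw [pow_one, hz]⟩ n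
    refine ⟨M, fun j hj => ?_⟩
    induction j, hj using Nat.le_induction with
    | base => rfl
    | succ j hj ih =>
      have : truncate n (z ^ j) = 0 := by
        rw [← Nat.sub_add_cancel hj, pow_add, map_mul, RingHom.mem_ker.1 hM, mul_zero]
      simp only [s] at ih ⊢
      rw [Finset.sum_range_succ, map_add, this, add_zero, ih]
  obtain ⟨L, hL⟩ := exists_limit s hs
  refine IsUnit.of_mul_eq_one (y * L) (eq_of_truncate fun n => ?_)
  obtain ⟨N, hN⟩ := hL n
  obtain ⟨M, hM⟩ := exists_low_pow hp (x := z) ⟨1, by rw [pow_one, hz]⟩ n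
  have e : x * (y * s (max N M)) = 1 - z ^ max N M := by
    rw [← mul_assoc, show x * y = 1 - z by simp [z], mul_neg_geom_sum]
  have : truncate n (z ^ max N M) = 0 := by
    rw [← Nat.sub_add_cancel (le_max_right N M), pow_add, map_mul, RingHom.mem_ker.1 hM, mul_zero]
  rw [map_mul, map_mul, ← hN _ (le_max_left N M), ← map_mul, ← map_mul, e, map_sub, this, sub_zero]

theorem map_pow_apply_mem {A : Type u} [CommRing A] {ι : Type*} [Fintype ι] [DecidableEq ι] (I : Ideal A)
    (D : Matrix ι ι A) (hD : ∀ a b, D a b ∈ I) : ∀ (M : ℕ) (a b : ι), (D ^ M) a b ∈ I ^ M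
  | 0, a, b => by simp
  | M + 1, a, b => by
    rw [pow_succ D M, Matrix.mul_apply, pow_succ I M]
    exact Ideal.sum_mem _ fun c _ => Ideal.mul_mem_mul (map_pow_apply_mem I D hD M a c) (hD c b)

/-- The Newton step for idempotents. -/
noncomputable def newton {A : Type u} [Ring A] (e : A) : A := 3 * e ^ 2 - 2 * e ^ 3

theorem newton_map {A B : Type u} [Ring A] [Ring B] (f : A →+* B) (e : A) : f (newton e) = newton (f e) := by
  simp [newton, map_ofNat]

theorem newton_eq_self {A : Type u} [Ring A] {e : A} (h : e * e = e) : newton e = e := by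
  rw [newton, pow_succ e 2, sq, h, h, ← sub_mul, show (3 : A) - 2 = 1 by norm_num, one_mul]

theorem newton_div {A : Type u} [Ring A] (e0 : A) (j : ℕ) :
    ∃ c, newton^[j] e0 * newton^[j] e0 - newton^[j] e0 = (e0 * e0 - e0) ^ (2 ^ j) * c := by
  suffices h : ∃ f g : Polynomial ℤ, Polynomial.aeval e0 f = newton^[j] e0 ∧
      f * f - f = (Polynomial.X * Polynomial.X - Polynomial.X) ^ (2 ^ j) * g by
    obtain ⟨f, g, hf, hg⟩ := h
    refine ⟨Polynomial.aeval e0 g, ?_⟩
    have := congrArg (Polynomial.aeval e0) hg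
    simpa only [map_sub, map_mul, map_pow, Polynomial.aeval_X, hf] using this
  induction j with
  | zero => exact ⟨Polynomial.X, 1, Polynomial.aeval_X e0, by simp⟩
  | succ j ih =>
    obtain ⟨f, g, hf, hg⟩ := ih
    refine ⟨3 * f ^ 2 - 2 * f ^ 3, g ^ 2 * (4 * f ^ 2 - 4 * f - 3), ?_, ?_⟩
    · rw [Function.iterate_succ_apply', ← hf]
      simp [newton, map_ofNat]
    · calc (3 * f ^ 2 - 2 * f ^ 3) * (3 * f ^ 2 - 2 * f ^ 3) - (3 * f ^ 2 - 2 * f ^ 3)
            = (f * f - f) ^ 2 * (4 * f ^ 2 - 4 * f - 3) := by ring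
        _ = _ := by rw [hg, pow_succ 2 j, pow_mul]; ring

theorem exists_truncate_pow_eq_zero (hp : IsNilpotent (p : S)) {m : ℕ} (D0 : Matrix (Fin m) (Fin m) (WittVector p S))
    (h0 : ∀ a b, IsNilpotent ((D0 a b).coeff 0)) (n : ℕ) :
    ∃ M, (truncate (p := p) (R := S) n).mapMatrix D0 ^ M = 0 := by
  let D := (truncate (p := p) (R := S) n).mapMatrix D0
  let I : Ideal (TruncatedWittVector p n S) := Ideal.span (Set.range fun ab : Fin m × Fin m => D ab.1 ab.2)
  obtain ⟨M, hM⟩ : IsNilpotent I := by
    rw [Ideal.FG.isNilpotent_iff_le_nilradical (Submodule.fg_span (Set.finite_range _))]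
    refine Ideal.span_le.2 ?_
    rintro _ ⟨⟨a, b⟩, rfl⟩
    obtain ⟨K, hK⟩ := exists_low_pow hp (h0 a b) n
    refine mem_nilradical.2 ⟨K, ?_⟩
    have e : D a b = truncate n (D0 a b) := by simp only [D, RingHom.mapMatrix_apply, Matrix.map_apply]
    show D a b ^ K = 0
    rw [e, ← map_pow]
    exact RingHom.mem_ker.1 hK
  refine ⟨M, Matrix.ext fun a b => ?_⟩
  have h := map_pow_apply_mem I D (fun a b => Ideal.subset_span ⟨(a, b), rfl⟩) M a b
  rw [hM, Ideal.zero_eq_bot, Ideal.mem_bot] at h
  rw [Matrix.zero_apply]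
  exact h

theorem exists_idempotent_lift {R : Type u} [CommRing R] (φ : S →+* R) (hφ : Function.Surjective φ)
    (hnil : ∀ a, φ a = 0 → IsNilpotent a) (hp : IsNilpotent (p : S)) {m : ℕ}
    (E : Matrix (Fin m) (Fin m) (WittVector p R)) (hE : E * E = E) :
    ∃ F : Matrix (Fin m) (Fin m) (WittVector p S), F * F = F ∧ F.map (WittVector.map φ) = E := by
  classical
  choose F0 hF0 using fun a b => WittVector.map_surjective φ hφ (E a b)
  let E0 : Matrix (Fin m) (Fin m) (WittVector p S) := Matrix.of F0
  let Φ := (WittVector.map (p := p) φ).mapMatrix (m := Fin m)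
  have hE0 : Φ E0 = E := Matrix.ext fun a b => hF0 a b
  let s : ℕ → Matrix (Fin m) (Fin m) (WittVector p S) := fun j => newton^[j] E0
  have hΦs : ∀ j, Φ (s j) = E := fun j => by
    induction j with
    | zero => exact hE0
    | succ j ih =>
      change Φ (newton^[j + 1] E0) = E
      rw [Function.iterate_succ_apply', newton_map]
      exact (congrArg newton ih).trans (newton_eq_self hE)
  have h0 : ∀ a b, IsNilpotent (((E0 * E0 - E0) a b).coeff 0) := fun a b => by
    refine hnil _ ?_
    have h1 : Φ (E0 * E0 - E0) = 0 := by rw [map_sub, map_mul, hE0, hE, sub_self]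
    have h2 : WittVector.map φ ((E0 * E0 - E0) a b) = 0 := congrFun (congrFun h1 a) b
    rw [← WittVector.map_coeff, h2, WittVector.zero_coeff]
  have hstab : ∀ n, ∃ N, ∀ j ≥ N, (truncate n).mapMatrix (s j) = (truncate n).mapMatrix (s N) ∧
      (truncate (p := p) n).mapMatrix (s j * s j - s j) = 0 := by
    intro n
    obtain ⟨M, hM⟩ := exists_truncate_pow_eq_zero hp (E0 * E0 - E0) h0 n
    have hz : ∀ j ≥ M, (truncate (p := p) n).mapMatrix (s j * s j - s j) = 0 := fun j hj => by
      obtain ⟨c, hc⟩ := newton_div E0 j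
      change (truncate (p := p) n).mapMatrix (newton^[j] E0 * newton^[j] E0 - newton^[j] E0) = 0
      rw [hc, map_mul, map_pow, ← Nat.sub_add_cancel (hj.trans Nat.lt_two_pow_self.le), pow_add, hM, mul_zero,
        zero_mul]
    refine ⟨M, fun j hj => ⟨?_, hz j hj⟩⟩
    induction j, hj using Nat.le_induction with
    | base => rfl
    | succ j hj ih =>
      change (truncate n).mapMatrix (newton^[j + 1] E0) = _
      rw [Function.iterate_succ_apply', newton_map]
      refine Eq.trans (newton_eq_self ?_) ih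
      rw [← map_mul, ← sub_eq_zero, ← map_sub]
      exact hz j hj
  choose L hL using fun a b => exists_limit (fun j => s j a b) fun n => by
    obtain ⟨N, hN⟩ := hstab n
    exact ⟨N, fun j hj => congrFun (congrFun (hN j hj).1 a) b⟩
  let F : Matrix (Fin m) (Fin m) (WittVector p S) := Matrix.of L
  have happrox : ∀ n, ∃ N, ∀ j ≥ N, (truncate n).mapMatrix (s j) = (truncate n).mapMatrix F := fun n => by
    choose N hN using fun ab : Fin m × Fin m => hL ab.1 ab.2 n
    exact ⟨Finset.univ.sup N, fun j hj => Matrix.ext fun a b =>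
      hN (a, b) j (le_trans (Finset.le_sup (Finset.mem_univ _)) hj)⟩
  refine ⟨F, Matrix.ext fun a b => eq_of_truncate fun n => ?_, Matrix.ext fun a b => ?_⟩
  · obtain ⟨N, hN⟩ := happrox n
    obtain ⟨N', hN'⟩ := hstab n
    have h1 := (hN' (max N N') (le_max_right _ _)).2
    rw [map_sub, map_mul, hN _ (le_max_left _ _), sub_eq_zero, ← map_mul] at h1
    exact congrFun (congrFun h1 a) b
  · ext i
    obtain ⟨N, hN⟩ := happrox (i + 1)
    have h1 := congrArg (fun t : TruncatedWittVector p (i + 1) S => t.coeff (Fin.last i))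
      (congrFun (congrFun (hN N le_rfl) a) b)
    simp only [RingHom.mapMatrix_apply, Matrix.map_apply, coeff_truncate, Fin.val_last] at h1
    rw [Matrix.map_apply, WittVector.map_coeff, ← h1, ← WittVector.map_coeff]
    exact congrArg (fun t : WittVector p R => t.coeff i) (congrFun (congrFun (hΦs N) a) b)

end Groth.Agent.WittLiftLib
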